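import Cfsg.Agent.Lib.TrialityPair.Basic
import Cfsg.Agent.Lib.Chev.FoldG2
import Cfsg.Agent.Lib.GTwoThree.Module

/-!
# A pair of outer involutions of `D₄(3)`

The triality `τ` of the diagram and the exchange `s` of two outer nodes: `τ` is outer, its fixed points
are `G₂(3)`, and those of `s` cover an element of order 7 under folding.
-/

set_option autoImplicit false

namespace Cfsg.Agent.TrialityPair

open Cfsg Cfsg.Lie
open Chev Chev.BNSetup

local notation "K3" => ZMod 3

/-- The centre of `G₂(3)` is trivial. -/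
theorem center_g2_three : Subgroup.center ↥(chevG2.group K3) = ⊥ := by
  haveI := (isSimpleGroup_group (F := K3) Chev.G2.good facts_chevG2 negTri_chevG2 isLongest_chevG2
    connected_chevG2 (Chev.perfect_G2 Chev.G2.good ⟨2, by decide, by decide⟩)).1
  refine (IsSimpleGroup.eq_bot_or_eq_top_of_normal (Subgroup.center ↥(chevG2.group K3))
    inferInstance).resolve_right fun h => ?_
  obtain ⟨g, hg, hc⟩ := GTwoThree.exists_self_centralizing (p := 7) (Or.inl rfl)
  have hle : Nat.card ↥(chevG2.group K3) ≤ Nat.card (Subgroup.zpowers g) := by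
    rw [← Subgroup.card_top]
    refine Subgroup.card_le_of_le fun y _ => hc y ?_
    exact (Subgroup.mem_center_iff.1 (h ▸ Subgroup.mem_top g) y).symm
  rw [Nat.card_zpowers, hg, GTwoThree.card_group] at hle
  norm_num at hle

theorem card_d4_three_ne : Nat.card ↥(chevG2.group K3) ≠ 4952179814400 := by
  rw [GTwoThree.card_group]; norm_num

/-- An automorphism with a centreless proper fixed point group is outer. -/
theorem notMem_inn {N H : Type*} [Group N] [Group H] {τ : MulAut N} (e : ↥(fixGrp τ) ≃* H)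
    (hc : Subgroup.center H = ⊥) (hne : Nat.card H ≠ Nat.card N) : τ ∉ Inn N := by
  rintro ⟨g, hg⟩
  have hgf : g ∈ fixGrp τ := by
    rw [mem_fixGrp, ← hg, MulAut.conj_apply]; group
  have hcen : e ⟨g, hgf⟩ ∈ Subgroup.center H := Subgroup.mem_center_iff.2 fun y => by
    obtain ⟨⟨h, hh⟩, rfl⟩ := e.surjective y
    rw [← map_mul, ← map_mul]
    refine congrArg e (Subtype.ext ?_)
    have hh' : g * h * g⁻¹ = h := by
      rw [← MulAut.conj_apply, hg]; exact hh
    exact (mul_inv_eq_iff_eq_mul.1 hh').symm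
  rw [hc, Subgroup.mem_bot, MulEquiv.map_eq_one_iff] at hcen
  have hτ1 : τ = 1 := by rw [← hg, show g = 1 from congrArg Subtype.val hcen, map_one]
  refine hne ((Nat.card_congr e.toEquiv).symm.trans ?_)
  rw [show fixGrp τ = ⊤ from Subgroup.ext fun x => iff_of_true (by rw [mem_fixGrp, hτ1]; rfl) trivial,
    Subgroup.card_top]

/-- The nodes of the two symmetries compose as in `Perm (Fin 3)`. -/
theorem node_rels : ∀ i < chevD4.rank,
    [0, 1, 3, 2].getD ([0, 1, 3, 2].getD i 0) 0 = i ∧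
    [2, 1, 3, 0].getD ([2, 1, 3, 0].getD ([2, 1, 3, 0].getD i 0) 0) 0 = i ∧
    [2, 1, 3, 0].getD ([0, 1, 3, 2].getD ([2, 1, 3, 0].getD ([0, 1, 3, 2].getD i 0) 0) 0) 0 = i ∧
    [2, 1, 3, 0].getD i 0 < chevD4.rank ∧ [0, 1, 3, 2].getD i 0 < chevD4.rank := by decide +kernel

/-- The two symmetries, and the folded group below the fixed points of the exchange. -/
theorem exists_graph_pair (F : Type) [Field F] :
    ∃ s τ : MulAut ↥(chevD4.group F), s * s = 1 ∧ τ * τ * τ = 1 ∧ τ * (s * (τ * s)) = 1 ∧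
      τ = GraphTab.groupAut D4.good facts_chevD4 orbD4_ok.1 graphD4_cols (RingEquiv.refl F) ∧
      ∀ g' ∈ chevG2.group F, ∃ g ∈ (fixGrp (N := ↥(chevD4.group F)) s).map (chevD4.group F).subtype,
        foldG2.Rel g g' := by
  classical
  have hG := Chev.D4.good
  set τ : MulAut ↥(chevD4.group F) :=
    GraphTab.groupAut D4.good facts_chevD4 orbD4_ok.1 graphD4_cols (RingEquiv.refl F) with hτ
  obtain ⟨s, hs1, hs2⟩ := exists_graphTab_aut (F := F) D4.good facts_chevD4 graphD4swap_ok graphD4swap_cols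
  have t1 : ∀ i < chevD4.rank, ∀ t : F,
      τ (hG.xgrp (chevD4.simple i) t) = hG.xgrp (chevD4.simple ([2, 1, 3, 0].getD i 0)) t :=
    fun i hi t => hG.eq_xgrp ((GraphTab.groupAut_simple hG facts_chevD4 orbD4_ok.1 graphD4_cols _ hi t).1
      (hG.coe_xgrp _ _))
  have t2 : ∀ i < chevD4.rank, ∀ t : F, τ (hG.xgrp (chevD4.neg (chevD4.simple i)) t) =
      hG.xgrp (chevD4.neg (chevD4.simple ([2, 1, 3, 0].getD i 0))) t :=
    fun i hi t => hG.eq_xgrp ((GraphTab.groupAut_simple hG facts_chevD4 orbD4_ok.1 graphD4_cols _ hi t).2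
      (hG.coe_xgrp _ _))
  have s1 : ∀ i < chevD4.rank, ∀ t : F,
      s (hG.xgrp (chevD4.simple i) t) = hG.xgrp (chevD4.simple ([0, 1, 3, 2].getD i 0)) t := hs1
  have s2 : ∀ i < chevD4.rank, ∀ t : F, s (hG.xgrp (chevD4.neg (chevD4.simple i)) t) =
      hG.xgrp (chevD4.neg (chevD4.simple ([0, 1, 3, 2].getD i 0))) t := hs2
  have hss : s * s = (1 : MulAut ↥(chevD4.group F)) := by
    refine aut_of_pi_unique hG facts_chevD4 negTri_chevD4 graphD4_cols fun i hi t => ?_
    obtain ⟨e, -, -, -, l⟩ := node_rels i hi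
    refine ⟨?_, ?_⟩
    · show s (s _) = _
      rw [s1 i hi, s1 _ l, e, MulAut.one_apply]
    · show s (s _) = _
      rw [s2 i hi, s2 _ l, e, MulAut.one_apply]
  have httt : τ * τ * τ = (1 : MulAut ↥(chevD4.group F)) := by
    refine aut_of_pi_unique hG facts_chevD4 negTri_chevD4 graphD4_cols fun i hi t => ?_
    obtain ⟨-, e, -, l, -⟩ := node_rels i hi
    have l2 := (node_rels _ l).2.2.2.1
    refine ⟨?_, ?_⟩
    · show τ (τ (τ _)) = _
      rw [t1 i hi, t1 _ l, t1 _ l2, e, MulAut.one_apply]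
    · show τ (τ (τ _)) = _
      rw [t2 i hi, t2 _ l, t2 _ l2, e, MulAut.one_apply]
  have hts : τ * (s * (τ * s)) = (1 : MulAut ↥(chevD4.group F)) := by
    refine aut_of_pi_unique hG facts_chevD4 negTri_chevD4 graphD4_cols fun i hi t => ?_
    obtain ⟨-, -, e, -, l⟩ := node_rels i hi
    have l2 := (node_rels _ l).2.2.2.1
    have l3 := (node_rels _ l2).2.2.2.2
    refine ⟨?_, ?_⟩
    · show τ (s (τ (s _))) = _
      rw [s1 i hi, t1 _ l, s1 _ l2, t1 _ l3, e, MulAut.one_apply]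
    · show τ (s (τ (s _))) = _
      rw [s2 i hi, t2 _ l, s2 _ l2, t2 _ l3, e, MulAut.one_apply]
  refine ⟨s, τ, hss, httt, hts, hτ, ?_⟩
  set Hs : Subgroup (GL chevD4.Idx F) := (fixGrp s).map (chevD4.group F).subtype with hHs
  let R : Subgroup (GL chevG2.Idx F) :=
    { carrier := {g' | ∃ g ∈ Hs, foldG2.Rel g g'}
      one_mem' := ⟨1, one_mem _, FoldTab.Rel.one⟩
      mul_mem' := by
        rintro x y ⟨g, hg, h1⟩ ⟨h, hh, h2⟩
        exact ⟨g * h, mul_mem hg hh, h1.mul h2⟩
      inv_mem' := by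
        rintro x ⟨g, hg, h1⟩
        exact ⟨g⁻¹, inv_mem hg, h1.inv⟩ }
  have hxe : ∀ r t, ((hG.xgrp r t : ↥(chevD4.group F)) : GL chevD4.Idx F) = xe hG r t :=
    fun r t => (show xe hG r t = xg chevD4 F r t from Units.ext (hG.coe_xg r t).symm).symm
  have hfixpv : ∀ (f : ℕ → ℕ), IsSide chevD4 f →
      (∀ i < chevD4.rank, ∀ t : F, s (hG.xgrp (f i) t) = hG.xgrp (f ([0, 1, 3, 2].getD i 0)) t) →
      ∀ (j : Fin 2) (t : F), pv hG f (orbD4.Jl 2 j) (fun _ => t) ∈ Hs := by
    intro f hf hsf j t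
    have hc := (orbD4_ok.2.2.1 j).1
    fin_cases j
    · refine ⟨hG.xgrp (f 1) t, ?_, ?_⟩
      · rw [SetLike.mem_coe, mem_fixGrp, hsf 1 (by decide)]
        rfl
      · show _ = ([1].map fun k => xe hG (f k) t).prod
        rw [List.map_singleton, List.prod_singleton]
        exact hxe _ _
    · refine ⟨hG.xgrp (f 0) t * (hG.xgrp (f 2) t * hG.xgrp (f 3) t), ?_, ?_⟩
      · rw [SetLike.mem_coe, mem_fixGrp, map_mul, map_mul, hsf 0 (by decide), hsf 2 (by decide),
          hsf 3 (by decide)]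
        show hG.xgrp (f 0) t * (hG.xgrp (f 3) t * hG.xgrp (f 2) t) = _
        refine congrArg _ (Subtype.ext ?_)
        rw [Subgroup.coe_mul, Subgroup.coe_mul, hxe, hxe]
        exact (xe_commute hG hc (show (3 : ℕ) ∈ [0, 2, 3] by decide) (show (2 : ℕ) ∈ [0, 2, 3] by decide)
          (by decide) (hf.mem 3) (hf.mem 2) t t).eq
      · show _ = ([0, 2, 3].map fun k => xe hG (f k) t).prod
        simp only [List.map_cons, List.map_nil, List.prod_cons, List.prod_nil, mul_one]
        show ((hG.xgrp (f 0) t * (hG.xgrp (f 2) t * hG.xgrp (f 3) t) : ↥(chevD4.group F)) :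
          GL chevD4.Idx F) = _
        rw [Subgroup.coe_mul, Subgroup.coe_mul, hxe, hxe, hxe]
  have hRx : ∀ j : Fin 2, ∀ t : F,
      xe Chev.G2.good (chevG2.simple (foldG2.node.getD j.val 0)) t ∈ R ∧
        xe Chev.G2.good (chevG2.neg (chevG2.simple (foldG2.node.getD j.val 0))) t ∈ R := by
    intro j t
    obtain ⟨h1, h2⟩ := rel_pv (F := F) hG orbD4_ok Chev.G2.good D4.valid G2.valid foldG2_left foldG2_cols
      foldG2_roots j t
    exact ⟨⟨_, hfixpv _ (Or.inl rfl) s1 j t, h1⟩, ⟨_, hfixpv _ (Or.inr rfl) s2 j t, h2⟩⟩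
  have hnode : ∀ i < chevG2.rank, ∃ j : Fin 2, foldG2.node.getD j.val 0 = i := by decide +kernel
  have hle : chevG2.group F ≤ R := by
    refine Chev.G2.good.group_le_of_simple (fun i hi t => ?_) fun i hi t => ?_ <;>
      obtain ⟨j, rfl⟩ := hnode i hi
    · rw [show xg chevG2 F _ t = xe Chev.G2.good _ t from
        Units.ext (Chev.G2.good.coe_xg _ t)]
      exact (hRx j t).1
    · rw [show xg chevG2 F _ t = xe Chev.G2.good _ t from
        Units.ext (Chev.G2.good.coe_xg _ t)]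
      exact (hRx j t).2
  exact fun g' hg' => hle hg'

/-- The model pair. -/
theorem exists_model (hcard : Nat.card ↥(chevD4.group K3) = 4952179814400) :
    ∃ s τ : MulAut ↥(chevD4.group K3), s * s = 1 ∧ τ * τ * τ = 1 ∧ τ * (s * (τ * s)) = 1 ∧
      τ ∉ Inn ↥(chevD4.group K3) ∧ (7 : ℕ) ∣ Nat.card (fixGrp (N := ↥(chevD4.group K3)) s : Subgroup ↥(chevD4.group K3)) ∧
      Nonempty ((fixGrp (N := ↥(chevD4.group K3)) τ : Subgroup ↥(chevD4.group K3)) ≃* ↥(chevG2.group K3)) := by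
  classical
  obtain ⟨s, τ, hss, httt, hts, hτ, hfold⟩ := exists_graph_pair K3
  obtain ⟨eτ⟩ := nonempty_fixed_triality (F := K3) τ (Or.inl hτ)
  have eτ' : (fixGrp (N := ↥(chevD4.group K3)) τ : Subgroup ↥(chevD4.group K3)) ≃* ↥(chevG2.group K3) := eτ
  refine ⟨s, τ, hss, httt, hts, ?_, ?_, ⟨eτ'⟩⟩
  · exact notMem_inn eτ' center_g2_three (by rw [hcard]; exact card_d4_three_ne)
  -- an element of order seven
  haveI : Fact (Nat.Prime 7) := ⟨by norm_num⟩
  obtain ⟨⟨g', hg'⟩, h7⟩ := exists_prime_orderOf_dvd_card' (G := ↥(chevG2.group K3)) 7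
    (by rw [GTwoThree.card_group]; norm_num)
  rw [Subgroup.orderOf_mk] at h7
  obtain ⟨g, hg, hrel⟩ := hfold g' hg'
  have hpow : ∀ n : ℕ, foldG2.Rel (g ^ n) (g' ^ n) := by
    intro n
    induction n with
    | zero => rw [pow_zero, pow_zero]; exact FoldTab.Rel.one
    | succ n ih => rw [pow_succ, pow_succ]; exact ih.mul hrel
  have h1 : g' ^ orderOf g = 1 := by
    have := hpow (orderOf g)
    rw [pow_orderOf_eq_one] at this
    exact FoldTab.Rel.unique foldG2_left this FoldTab.Rel.one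
  refine ((h7 ▸ orderOf_dvd_of_pow_eq_one h1).trans (Subgroup.orderOf_dvd_natCard _ hg)).trans ?_
  rw [Subgroup.card_map_of_injective (Subgroup.subtype_injective _)]

end Cfsg.Agent.TrialityPair
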