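import Cfsg.Agent.Lib.TrialityPair.Classes
import Cfsg.Agent.Lib.TrialityPair.Model
import Cfsg.Agent.Lib.D4Iso.Iso
import Cfsg.Agent.Lib.Transpos.M24Count

/-!
# The common fixed points of a pair of outer involutions of `POmega⁺(8,3)`

`fixed_pair_iso`: two outer involutions whose product has order three outside, with 4585351680 fixed
points, fix a copy of `G₂(3)` in common.
-/

set_option autoImplicit false

namespace Cfsg.Agent.TrialityPair

open Cfsg Cfsg.Lie

theorem isPair_congr {N M : Type*} [Group N] [Group M] (e : N ≃* M) {n : ℕ} {β γ : MulAut N}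
    (P : IsPair n β γ) : IsPair n (MulAut.congr e β) (MulAut.congr e γ) := by
  refine ⟨by rw [← map_mul, P.sqβ, map_one], by rw [← map_mul, P.sqγ, map_one],
    by rw [← map_mul, ← map_pow, P.cube, map_one], fun h => P.outer (mem_inn_congr e ?_), ?_⟩
  · rw [map_mul]; exact h
  · rw [fixGrp_congr, Subgroup.card_map_of_injective e.injective]; exact P.card

theorem card_fixGrp_congr {N M : Type*} [Group N] [Group M] (e : N ≃* M) (β : MulAut N) :
    Nat.card ↥(fixGrp (MulAut.congr e β)) = Nat.card ↥(fixGrp β) := by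
  rw [fixGrp_congr, Subgroup.card_map_of_injective e.injective]

/-- The intersection for one pair is that of a model pair. -/
theorem inter_iso {N : Type*} [Group N] [Finite N] {n : ℕ} {β γ s c τ : MulAut N}
    (hconj : ∀ {β γ β' γ' : MulAut N}, IsPair n β γ → IsPair n β' γ' →
      ∃ (α : MulAut N) (m : N), α * β * α⁻¹ = β' ∧
        α * γ * α⁻¹ = MulAut.conj m * γ' * (MulAut.conj m)⁻¹)
    (P : IsPair n β γ) (P' : IsPair n s c) (hτ : s * c = τ)
    (hcard : Nat.card ↥(fixGrp τ) * Nat.card N = Nat.card ↥(fixGrp β) * Nat.card ↥(fixGrp β)) :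
    Nonempty (↥(fixGrp β ⊓ fixGrp γ) ≃* ↥(fixGrp τ)) := by
  obtain ⟨α, m, h1, h2⟩ := hconj P P'
  have hs : Nat.card ↥(fixGrp s) = Nat.card ↥(fixGrp β) := by rw [← h1, card_fixGrp_conj]
  have hc : Nat.card ↥(fixGrp c) = Nat.card ↥(fixGrp β) := by rw [P'.card_eq, hs]
  have hle : fixGrp s ⊓ fixGrp c ≤ fixGrp τ := fun x ⟨hxs, hxc⟩ => by
    rw [← hτ, mem_fixGrp, MulAut.mul_apply, mem_fixGrp.1 hxc, mem_fixGrp.1 hxs]
  have hge := card_mul_le (fixGrp s) (fixGrp c)
  rw [hs, hc, ← hcard, mul_comm] at hge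
  have heq : fixGrp s ⊓ fixGrp c = fixGrp τ :=
    Subgroup.eq_of_le_of_card_ge hle (Nat.le_of_mul_le_mul_left hge Nat.card_pos)
  obtain ⟨x, hx, y, hy, rfl⟩ := exists_mul (H := fixGrp s) (K := fixGrp c)
    (by rw [hs, hc, heq, mul_comm (Nat.card N), hcard]) m
  have hmap : (fixGrp β ⊓ fixGrp γ).map α.toMonoidHom =
      (fixGrp s ⊓ fixGrp c).map (MulAut.conj x).toMonoidHom := by
    rw [Subgroup.map_inf _ _ _ α.injective, Subgroup.map_inf _ _ _ (MulAut.conj x).injective,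
      ← fixGrp_conj, ← fixGrp_conj, h1, h2, fixGrp_conj]
    have hyc : (fixGrp c).map (MulAut.conj y).toMonoidHom = fixGrp c := by
      refine Subgroup.eq_of_le_of_card_ge ?_ (Subgroup.card_map_of_injective (MulAut.conj y).injective).ge
      rintro _ ⟨z, hz, rfl⟩
      exact mul_mem (mul_mem hy hz) (inv_mem hy)
    have hxs : (fixGrp s).map (MulAut.conj x).toMonoidHom = fixGrp s := by
      refine Subgroup.eq_of_le_of_card_ge ?_ (Subgroup.card_map_of_injective (MulAut.conj x).injective).ge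
      rintro _ ⟨z, hz, rfl⟩
      exact mul_mem (mul_mem hx hz) (inv_mem hx)
    rw [hxs, show (MulAut.conj (x * y)).toMonoidHom =
      (MulAut.conj x).toMonoidHom.comp (MulAut.conj y).toMonoidHom from by rw [map_mul]; rfl,
      ← Subgroup.map_map, hyc]
  exact ⟨((Subgroup.equivMapOfInjective _ _ α.injective).trans (MulEquiv.subgroupCongr hmap)).trans
    ((Subgroup.equivMapOfInjective _ _ (MulAut.conj x).injective).symm.trans
      (MulEquiv.subgroupCongr heq))⟩

theorem exists_equiv_plus : Nonempty (POmega (ZMod 3) (quadFormPlus 4 (ZMod 3)) ≃*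
    POmega (ZMod 3) ⇑(QForm.plusForm (ZMod 3) 4 : QuadraticForm (ZMod 3) (Fin 4 ⊕ Fin 4 → ZMod 3))) := by
  rw [QForm.coe_plusForm]
  exact ⟨MulEquiv.refl _⟩

/-- The comparison with a model pair, transported. -/
theorem transport_pair {N M C H : Type*} [Group N] [Group M] [Group C] [Group H] [Finite N]
    (e : N ≃* M) (f : C ≃* M)
    (hconj : ∀ {β γ β' γ' : MulAut M}, IsPair 7 β γ → IsPair 7 β' γ' →
      ∃ (α : MulAut M) (m : M), α * β * α⁻¹ = β' ∧
        α * γ * α⁻¹ = MulAut.conj m * γ' * (MulAut.conj m)⁻¹)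
    {s τ : MulAut C} (hss : s * s = 1) (httt : τ * τ * τ = 1) (hts : τ * (s * (τ * s)) = 1)
    (hτo : τ ∉ Inn C) (hdvd : 7 ∣ Nat.card ↥(fixGrp s)) (eτ : ↥(fixGrp τ) ≃* H) {β γ : MulAut N}
    (P : IsPair 7 β γ)
    (hcard : Nat.card H * Nat.card N = Nat.card ↥(fixGrp β) * Nat.card ↥(fixGrp β)) :
    Nonempty (↥(fixGrp β ⊓ fixGrp γ) ≃* H) := by
  have h7 : τ * s * τ = s := by
    have h : τ * s * τ * s = 1 := by rw [← hts]; group
    rw [eq_inv_of_mul_eq_one_left h, inv_eq_of_mul_eq_one_right hss]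
  have hsc : s * (s * τ) = τ := by rw [← mul_assoc, hss, one_mul]
  have P0 : IsPair 7 s (s * τ) := by
    refine ⟨hss, ?_, by rw [hsc, pow_succ, pow_two, httt], by rw [hsc]; exact hτo, hdvd⟩
    calc s * τ * (s * τ) = s * (τ * s * τ) := by simp only [mul_assoc]
      _ = 1 := by rw [h7, hss]
  haveI := Finite.of_equiv N e.toEquiv
  obtain ⟨i⟩ := inter_iso (τ := MulAut.congr f τ) hconj (isPair_congr e P) (isPair_congr f P0)
    (by rw [← map_mul, hsc]) (by
      rw [card_fixGrp_congr f τ, Nat.card_congr eτ.toEquiv, card_fixGrp_congr e β,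
        ← Nat.card_congr e.toEquiv, hcard])
  have h1 : fixGrp (MulAut.congr e β) ⊓ fixGrp (MulAut.congr e γ) =
      (fixGrp β ⊓ fixGrp γ).map e.toMonoidHom := by
    rw [fixGrp_congr, fixGrp_congr, Subgroup.map_inf _ _ _ e.injective]
  exact ⟨((Subgroup.equivMapOfInjective _ _ e.injective).trans (MulEquiv.subgroupCongr h1.symm)).trans
    (i.trans (((MulEquiv.subgroupCongr (fixGrp_congr f τ)).trans
      (Subgroup.equivMapOfInjective _ _ f.injective).symm).trans eτ))⟩

/-- The comparison, for any model. -/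
theorem fixed_pair_of_model {N : Type*} [Group N] [Finite N] {C H : Type} [Group C] [Group H]
    (e₀ : N ≃* POmega (ZMod 3) (quadFormPlus 4 (ZMod 3)))
    (e₂ : C ≃* POmega (ZMod 3) (quadFormPlus 4 (ZMod 3)))
    (hH : Nat.card H = 4245696)
    (hmodel : ∃ s τ : MulAut C, s * s = 1 ∧ τ * τ * τ = 1 ∧ τ * (s * (τ * s)) = 1 ∧ τ ∉ Inn C ∧
      (7 : ℕ) ∣ Nat.card (fixGrp (N := C) s : Subgroup C) ∧
      Nonempty ((fixGrp (N := C) τ : Subgroup C) ≃* H))
    {β γ : MulAut N} (P : IsPair 7 β γ) (hc : Nat.card ↥(fixGrp β) = 4585351680) :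
    Nonempty (↥(fixGrp β ⊓ fixGrp γ) ≃* H) := by
  obtain ⟨e₁⟩ := exists_equiv_plus
  obtain ⟨s, τ, hss, httt, hts, hτo, hdvd, ⟨eτ⟩⟩ := hmodel
  exact transport_pair (e₀.trans e₁) (e₂.trans e₁) exists_pair_conj hss httt hts hτo hdvd eτ P
    (by rw [hH, (Nat.card_congr e₀.toEquiv).trans Transpos.card_pomega_eight_three, hc])

/-- The comparison for the model inside a Chevalley group over a field kept abstract. -/
theorem fixed_pair_of_d4 {N : Type*} [Group N] [Finite N] {F : Type} [Field F] {H : Type} [Group H]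
    (e₀ : N ≃* POmega (ZMod 3) (quadFormPlus 4 (ZMod 3)))
    (e₂ : ↥(chevD4.group F) ≃* POmega (ZMod 3) (quadFormPlus 4 (ZMod 3)))
    (hH : Nat.card H = 4245696)
    (hmodel : ∃ s τ : MulAut ↥(chevD4.group F), s * s = 1 ∧ τ * τ * τ = 1 ∧
      τ * (s * (τ * s)) = 1 ∧ τ ∉ Inn ↥(chevD4.group F) ∧
      (7 : ℕ) ∣ Nat.card (fixGrp (N := ↥(chevD4.group F)) s : Subgroup ↥(chevD4.group F)) ∧
      Nonempty ((fixGrp (N := ↥(chevD4.group F)) τ : Subgroup ↥(chevD4.group F)) ≃* H))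
    {β γ : MulAut N} (P : IsPair 7 β γ) (hc : Nat.card ↥(fixGrp β) = 4585351680) :
    Nonempty (↥(fixGrp β ⊓ fixGrp γ) ≃* H) :=
  fixed_pair_of_model (C := ↥(chevD4.group F)) e₀ e₂ hH hmodel P hc

/-- The common fixed points of a pair. -/
theorem fixed_pair_iso {N : Type*} [Group N] [Finite N]
    (e₀ : N ≃* POmega (ZMod 3) (quadFormPlus 4 (ZMod 3))) {β γ : MulAut N} (P : IsPair 7 β γ)
    (hc : Nat.card ↥(fixGrp β) = 4585351680) :
    Nonempty (↥(fixGrp β ⊓ fixGrp γ) ≃* ↥(chevG2.group (ZMod 3))) := by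
  obtain ⟨e₂⟩ := D4Iso.nonempty_iso (F := ZMod 3)
  exact fixed_pair_of_d4 (F := ZMod 3) (H := ↥(chevG2.group (ZMod 3))) e₀ e₂ GTwoThree.card_group
    (exists_model ((Nat.card_congr e₂.toEquiv).trans Transpos.card_pomega_eight_three)) P hc

end Cfsg.Agent.TrialityPair
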