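import Cfsg.Prelude.Def_KGroupFacts
import Mathlib

/-!
# Pairs of outer involutions

`pair_to`: when the involutions with a partner form one class whose centraliser covers that of its image,
two pairs are conjugate up to an inner automorphism on one side.  `exists_mul`, `card_mul_le`: products of
two subgroups.
-/

set_option autoImplicit false

namespace Cfsg.Agent.TrialityPair

open Cfsg

section Fix

variable {N : Type*} [Group N]

/-- The fixed points of an automorphism. -/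
def fixGrp (α : MulAut N) : Subgroup N := MonoidHom.eqLocus α.toMonoidHom (MonoidHom.id N)

theorem mem_fixGrp {α : MulAut N} {x : N} : x ∈ fixGrp α ↔ α x = x := Iff.rfl

theorem fixGrp_conj (α β : MulAut N) : fixGrp (α * β * α⁻¹) = (fixGrp β).map α.toMonoidHom := by
  ext x
  rw [mem_fixGrp, MulAut.mul_apply, MulAut.mul_apply]
  constructor
  · intro h
    refine ⟨α⁻¹ x, ?_, MulAut.apply_inv_self N α x⟩
    show β (α⁻¹ x) = α⁻¹ x
    exact α.injective (h.trans (MulAut.apply_inv_self N α x).symm)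
  · rintro ⟨y, hy, rfl⟩
    show α (β (α⁻¹ (α y))) = α y
    rw [MulAut.inv_apply_self, show β y = y from hy]

theorem card_fixGrp_conj (α β : MulAut N) : Nat.card ↥(fixGrp (α * β * α⁻¹)) = Nat.card ↥(fixGrp β) := by
  rw [fixGrp_conj]
  exact Subgroup.card_map_of_injective α.injective

theorem fixGrp_congr {M : Type*} [Group M] (e : N ≃* M) (β : MulAut N) :
    fixGrp (MulAut.congr e β) = (fixGrp β).map e.toMonoidHom := by
  ext x
  constructor
  · intro h
    refine ⟨e.symm x, ?_, e.apply_symm_apply x⟩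
    show β (e.symm x) = e.symm x
    exact e.injective ((show e (β (e.symm x)) = x from h).trans (e.apply_symm_apply x).symm)
  · rintro ⟨y, hy, rfl⟩
    show e (β (e.symm (e y))) = e y
    rw [e.symm_apply_apply, show β y = y from hy]

theorem congr_conj {M : Type*} [Group M] (e : N ≃* M) (x : N) :
    MulAut.congr e (MulAut.conj x) = MulAut.conj (e x) :=
  MulEquiv.ext fun y => by
    show e (x * e.symm y * x⁻¹) = e x * y * (e x)⁻¹
    rw [map_mul, map_mul, e.apply_symm_apply, map_inv]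

theorem mem_inn_congr {M : Type*} [Group M] (e : N ≃* M) {β : MulAut N}
    (h : MulAut.congr e β ∈ Inn M) : β ∈ Inn N := by
  obtain ⟨y, hy⟩ := h
  refine ⟨e.symm y, (MulAut.congr e).injective ?_⟩
  rw [congr_conj, e.apply_symm_apply, hy]

end Fix

section Product

variable {G : Type*} [Group G]

/-- The cosets of `H ⊓ K` in `H` inject into those of `K`. -/
def cosetMap (H K : Subgroup G) : ↥H ⧸ K.subgroupOf H → G ⧸ K :=
  Quotient.map' Subtype.val fun x y h => by
    rw [QuotientGroup.leftRel_apply] at h ⊢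
    exact h

theorem cosetMap_injective (H K : Subgroup G) : Function.Injective (cosetMap H K) := by
  intro p q
  refine Quotient.inductionOn₂' p q fun x y h => ?_
  refine QuotientGroup.eq.2 ?_
  have h' : (QuotientGroup.mk (x : G) : G ⧸ K) = QuotientGroup.mk (y : G) := h
  exact (QuotientGroup.eq (s := K)).1 h'

theorem card_quot_mul (H K : Subgroup G) :
    Nat.card (↥H ⧸ K.subgroupOf H) * Nat.card ↥(H ⊓ K) = Nat.card H := by
  rw [Subgroup.card_eq_card_quotient_mul_card_subgroup (K.subgroupOf H), ← Subgroup.inf_subgroupOf_left,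
    Nat.card_congr (Subgroup.subgroupOfEquivOfLe (inf_le_left : H ⊓ K ≤ H)).toEquiv]

variable [Finite G]

theorem card_mul_le (H K : Subgroup G) :
    Nat.card H * Nat.card K ≤ Nat.card G * Nat.card ↥(H ⊓ K) := by
  have h1 := Nat.card_le_card_of_injective _ (cosetMap_injective H K)
  calc Nat.card H * Nat.card K
      = Nat.card (↥H ⧸ K.subgroupOf H) * (Nat.card ↥(H ⊓ K) * Nat.card K) := by
        rw [← card_quot_mul H K, mul_assoc]
    _ ≤ Nat.card (G ⧸ K) * (Nat.card ↥(H ⊓ K) * Nat.card K) := Nat.mul_le_mul_right _ h1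
    _ = Nat.card G * Nat.card ↥(H ⊓ K) := by
        rw [Subgroup.card_eq_card_quotient_mul_card_subgroup K]; ring

theorem exists_mul {H K : Subgroup G}
    (h : Nat.card H * Nat.card K = Nat.card G * Nat.card ↥(H ⊓ K)) (g : G) :
    ∃ x ∈ H, ∃ y ∈ K, g = x * y := by
  have hc : Nat.card (↥H ⧸ K.subgroupOf H) = Nat.card (G ⧸ K) := by
    refine Nat.eq_of_mul_eq_mul_right (m := Nat.card ↥(H ⊓ K) * Nat.card K)
      (Nat.mul_pos Nat.card_pos Nat.card_pos) ?_
    rw [← mul_assoc, card_quot_mul H K, h, Subgroup.card_eq_card_quotient_mul_card_subgroup K]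
    ring
  obtain ⟨p, hp⟩ := ((Nat.bijective_iff_injective_and_card _).2 ⟨cosetMap_injective H K, hc⟩).2
    (QuotientGroup.mk g)
  induction p using Quotient.inductionOn' with
  | h x =>
    have h' : (QuotientGroup.mk (x : G) : G ⧸ K) = QuotientGroup.mk g := hp
    exact ⟨x, x.2, (x : G)⁻¹ * g, QuotientGroup.eq.1 h', by group⟩

end Product

section Pairs

variable {N : Type*} [Group N]

/-- Two outer involutions, of the named fixed point order, whose product has order three outside. -/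
structure IsPair (n : ℕ) (β γ : MulAut N) : Prop where
  sqβ : β * β = 1
  sqγ : γ * γ = 1
  cube : (β * γ) ^ 3 = 1
  outer : β * γ ∉ Inn N
  card : n ∣ Nat.card ↥(fixGrp β)

theorem IsPair.conj_eq {n : ℕ} {β γ : MulAut N} (P : IsPair n β γ) :
    β * γ * β * (β * γ)⁻¹ = γ := by
  have h := P.cube
  rw [pow_succ, pow_two] at h
  rw [mul_inv_eq_iff_eq_mul]
  calc β * γ * β = (β * γ * (β * γ) * (β * γ)) * (γ⁻¹ * β⁻¹ * γ⁻¹) := by group
    _ = γ * (β * γ) := by
      rw [h, one_mul, inv_eq_of_mul_eq_one_right P.sqγ, inv_eq_of_mul_eq_one_right P.sqβ]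
      group

theorem IsPair.card_eq {n : ℕ} {β γ : MulAut N} (P : IsPair n β γ) :
    Nat.card ↥(fixGrp γ) = Nat.card ↥(fixGrp β) := by
  rw [← P.conj_eq, card_fixGrp_conj]

theorem IsPair.swap {n : ℕ} {β γ : MulAut N} (P : IsPair n β γ) : IsPair n γ β := by
  have e : (β * γ)⁻¹ = γ * β := by
    rw [mul_inv_rev, inv_eq_of_mul_eq_one_right P.sqβ, inv_eq_of_mul_eq_one_right P.sqγ]
  refine ⟨P.sqγ, P.sqβ, by rw [← e, inv_pow, P.cube, inv_one], fun h => P.outer ?_,
    P.card_eq.symm ▸ P.card⟩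
  rw [← inv_inv (β * γ), e]
  exact inv_mem h

theorem IsPair.conj {n : ℕ} {β γ : MulAut N} (P : IsPair n β γ) (α : MulAut N) :
    IsPair n (α * β * α⁻¹) (α * γ * α⁻¹) := by
  have e : ∀ x y : MulAut N, α * x * α⁻¹ * (α * y * α⁻¹) = α * (x * y) * α⁻¹ := fun x y => by group
  refine ⟨by rw [e, P.sqβ]; group, by rw [e, P.sqγ]; group, by rw [e, conj_pow, P.cube]; group,
    fun h => P.outer ?_, (card_fixGrp_conj α β).symm ▸ P.card⟩
  rw [e] at h
  have := (innNormal N).conj_mem _ h α⁻¹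
  rwa [show α⁻¹ * (α * (β * γ) * α⁻¹) * α⁻¹⁻¹ = β * γ by group] at this

theorem cls_pair {n : ℕ} {β γ : MulAut N} (P : IsPair n β γ) :
    let c := QuotientGroup.mk' (Inn N)
    c β * c β = 1 ∧ c γ * c γ = 1 ∧ c β ≠ c γ ∧ (c β * c γ) ^ 3 = 1 := by
  intro c
  refine ⟨by rw [← map_mul, P.sqβ, map_one], by rw [← map_mul, P.sqγ, map_one], fun e => P.outer ?_,
    by rw [← map_mul, ← map_pow, P.cube, map_one]⟩
  refine (QuotientGroup.eq_one_iff _).1 ?_
  show c (β * γ) = 1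
  rw [map_mul, e, ← map_mul, P.sqγ, map_one]

/-- Two pairs are conjugate up to an inner automorphism on one side. -/
theorem pair_to {n : ℕ} (r : MulAut N)
    (hclass : ∀ β γ, IsPair n β γ → ∃ α, α * β * α⁻¹ = r)
    (hlift : ∀ z : Out N, Commute z (QuotientGroup.mk r) →
      ∃ α, Commute α r ∧ (QuotientGroup.mk α : Out N) = z)
    (htr : ∀ x y y' : Out N, x * x = 1 → y * y = 1 → y' * y' = 1 → x ≠ y → x ≠ y' →
      (x * y) ^ 3 = 1 → (x * y') ^ 3 = 1 → ∃ z, Commute z x ∧ z * y * z⁻¹ = y')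
    {β γ β' γ' : MulAut N} (P : IsPair n β γ) (P' : IsPair n β' γ') :
    ∃ (α : MulAut N) (m : N), α * β * α⁻¹ = β' ∧
      α * γ * α⁻¹ = MulAut.conj m * γ' * (MulAut.conj m)⁻¹ := by
  obtain ⟨a1, h1⟩ := hclass β γ P
  obtain ⟨a2, h2⟩ := hclass β' γ' P'
  set γ1 := a1 * γ * a1⁻¹ with hγ1
  set γ2 := a2 * γ' * a2⁻¹ with hγ2
  have Q1 : IsPair n r γ1 := h1 ▸ P.conj a1
  have Q2 : IsPair n r γ2 := h2 ▸ P'.conj a2
  obtain ⟨sx, sy, ne, cu⟩ := cls_pair Q1
  obtain ⟨-, sy', ne', cu'⟩ := cls_pair Q2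
  obtain ⟨z, hzc, hz⟩ := htr _ _ _ sx sy sy' ne ne' cu cu'
  obtain ⟨a3, h3, rfl⟩ := hlift z hzc
  set γ3 := a3 * γ1 * a3⁻¹ with hγ3
  have h3r : a3 * r * a3⁻¹ = r := by rw [h3.eq, mul_inv_cancel_right]
  have Q3 : IsPair n r γ3 := h3r ▸ Q1.conj a3
  obtain ⟨p, hp⟩ := hclass γ3 r Q3.swap
  obtain ⟨q, hq⟩ := hclass γ2 r Q2.swap
  have hcls : (QuotientGroup.mk γ3 : Out N) = QuotientGroup.mk γ2 := by
    rw [hγ3, QuotientGroup.mk_mul, QuotientGroup.mk_mul, QuotientGroup.mk_inv]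
    exact hz
  obtain ⟨a4, h4, h4c⟩ := hlift (QuotientGroup.mk (q * p⁻¹)) (by
    have hp' : (QuotientGroup.mk p : Out N) * QuotientGroup.mk γ3 * (QuotientGroup.mk p)⁻¹ =
        QuotientGroup.mk r := by
      rw [← QuotientGroup.mk_inv, ← QuotientGroup.mk_mul, ← QuotientGroup.mk_mul, hp]
    have hq' : (QuotientGroup.mk q : Out N) * QuotientGroup.mk γ2 * (QuotientGroup.mk q)⁻¹ =
        QuotientGroup.mk r := by
      rw [← QuotientGroup.mk_inv, ← QuotientGroup.mk_mul, ← QuotientGroup.mk_mul, hq]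
    rw [commute_iff_eq, ← mul_inv_eq_iff_eq_mul, QuotientGroup.mk_mul, QuotientGroup.mk_inv]
    conv_lhs => rw [← hp', hcls]
    conv_rhs => rw [← hq']
    group)
  obtain ⟨m, hm⟩ : q⁻¹ * a4 * p ∈ Inn N := by
    refine (QuotientGroup.eq_one_iff _).1 ?_
    rw [QuotientGroup.mk_mul, QuotientGroup.mk_mul, h4c, QuotientGroup.mk_mul, QuotientGroup.mk_inv,
      QuotientGroup.mk_inv]
    group
  -- `m` moves `γ3` to `γ2`
  have hmv : MulAut.conj m * γ3 * (MulAut.conj m)⁻¹ = γ2 := by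
    rw [hm]
    calc q⁻¹ * a4 * p * γ3 * (q⁻¹ * a4 * p)⁻¹ = q⁻¹ * (a4 * (p * γ3 * p⁻¹) * a4⁻¹) * q := by group
      _ = q⁻¹ * r * q := by rw [hp, h4.eq, mul_inv_cancel_right]
      _ = γ2 := by rw [← hq]; group
  refine ⟨a2⁻¹ * a3 * a1, (a2⁻¹ : MulAut N) m⁻¹, ?_, ?_⟩
  · calc a2⁻¹ * a3 * a1 * β * (a2⁻¹ * a3 * a1)⁻¹ = a2⁻¹ * (a3 * (a1 * β * a1⁻¹) * a3⁻¹) * a2 := by group
      _ = β' := by rw [h1, h3r, ← h2]; group
  · have e : MulAut.conj ((a2⁻¹ : MulAut N) m⁻¹) = a2⁻¹ * (MulAut.conj m)⁻¹ * a2 := by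
      have h : ∀ (f : MulAut N) (y : N), MulAut.conj (f y) = f * MulAut.conj y * f⁻¹ := fun f y =>
        MulEquiv.ext fun x => by
          rw [MulAut.mul_apply, MulAut.mul_apply, MulAut.conj_apply, MulAut.conj_apply, map_mul, map_mul,
            map_inv, MulAut.apply_inv_self]
      rw [h, map_inv, inv_inv]
    rw [e]
    calc a2⁻¹ * a3 * a1 * γ * (a2⁻¹ * a3 * a1)⁻¹ = a2⁻¹ * γ3 * a2 := by rw [hγ3, hγ1]; group
      _ = a2⁻¹ * ((MulAut.conj m)⁻¹ * γ2 * MulAut.conj m) * a2 := by rw [← hmv]; group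
      _ = _ := by rw [hγ2]; group

end Pairs

end Cfsg.Agent.TrialityPair
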