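import Cfsg.Agent.Lib.TrialityPair.Basic
import Cfsg.Agent.Lib.AutPOmega.OutEight
import Cfsg.Agent.Lib.ClassicalSimple.PGOModels
import Cfsg.Agent.Lib.QForm.OmegaQuot

/-!
# Pairs of outer involutions of `POmega⁺(8,3)`

`exists_conj_refl`: an involution with a partner whose centraliser has order divisible by 7 is conjugate
to the reflection in the identity.  `exists_pair_conj`: two such pairs are conjugate up to an inner
automorphism on one side.
-/

set_option autoImplicit false

namespace Cfsg.Agent.TrialityPair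

open scoped Matrix
open Cfsg
open ClassicalSimple (GO simAut omegaSub scalarGO)
open AutPOmega (clsGO clsI iso2GO)
open QForm (plusForm refl act)
open Triality (ap Rel oconj oone N8_oone_ne omul)

local notation "K3" => ZMod 3
local notation "I8" => (Fin 4 ⊕ Fin 4)
local notation "V8" => (Fin 4 ⊕ Fin 4 → ZMod 3)
local notation "N8" => (plusForm (ZMod 3) 4 : QuadraticForm (ZMod 3) V8)
set_option quotPrecheck false in
local notation "M8" => POmega (ZMod 3) ⇑(plusForm (ZMod 3) 4 : QuadraticForm (ZMod 3) V8)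

section Perm

set_option synthInstance.maxSize 4000 in
theorem perm_four_class : ∀ x y x' : Equiv.Perm (Fin 4), x * x = 1 → x' * x' = 1 → x ≠ x' →
    (x * x') ^ 3 = 1 → y * y = 1 →
      (∃ y' : Equiv.Perm (Fin 4), y' * y' = 1 ∧ y ≠ y' ∧ (y * y') ^ 3 = 1) →
      ∃ z, z * x * z⁻¹ = y := by decide +kernel

set_option synthInstance.maxSize 4000 in
theorem perm_four_trans : ∀ x y y' : Equiv.Perm (Fin 4), x * x = 1 → y * y = 1 → y' * y' = 1 → x ≠ y →
    x ≠ y' → (x * y) ^ 3 = 1 → (x * y') ^ 3 = 1 → ∃ z, z * x = x * z ∧ z * y * z⁻¹ = y' := by decide +kernel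

set_option synthInstance.maxSize 4000 in
theorem perm_four_cent : ∀ x z w : Equiv.Perm (Fin 4), x * x = 1 →
    (∃ y : Equiv.Perm (Fin 4), y * y = 1 ∧ x ≠ y ∧ (x * y) ^ 3 = 1) → z * x = x * z → z ≠ 1 → z ≠ x →
      w * x = x * w → w = 1 ∨ w = x ∨ w = z ∨ w = x * z := by decide +kernel

end Perm

theorem conj_fixed {N : Type*} [Group N] (β : MulAut N) {x : N} (hx : x ∈ fixGrp β) :
    β * MulAut.conj x * β⁻¹ = MulAut.conj x :=
  MulEquiv.ext fun y => by
    rw [MulAut.mul_apply, MulAut.mul_apply, MulAut.conj_apply, MulAut.conj_apply, map_mul, map_mul,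
      map_inv, MulAut.apply_inv_self, mem_fixGrp.1 hx]

theorem conj_pow_eq_one {N : Type*} [Group N] {x : N} {n : ℕ} (h : orderOf x = n) :
    MulAut.conj x ^ n = 1 := by
  rw [← map_pow, ← h, pow_orderOf_eq_one, map_one]

theorem card_three : Fintype.card K3 = 3 := ZMod.card 3

theorem out_equiv : Nonempty (Out M8 ≃* Equiv.Perm (Fin 4)) := by
  obtain ⟨e⟩ := AutPOmega.out_eight_odd (F := K3) 3 (by rw [card_three]; decide) (f := 1) le_rfl
    (by rw [card_three]; rfl)
  haveI : Unique (Multiplicative (ZMod 1)) := { default := 1, uniq := fun x => Subsingleton.elim (α := Fin 1) x 1 }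
  exact ⟨e.trans MulEquiv.prodUnique⟩

/-- The reflection in the identity. -/
noncomputable def rAut : MulAut M8 := simAut N8 (AutPO.reflG (oone : V8) N8_oone_ne)

/-- Its class. -/
noncomputable def rCls : Out M8 := QuotientGroup.mk rAut

theorem rCls_pair : rCls * rCls = 1 ∧ ∃ b : Out M8, b * b = 1 ∧ rCls ≠ b ∧ (rCls * b) ^ 3 = 1 := by
  obtain ⟨M, A, a, b, -, -, -, haA, -, -, ha, hb, hbA, hab, -, -, -, ⟨C, hC, haC⟩, -⟩ :=
    AutPOmega.out_eight (F := K3) 3 (f := 1) le_rfl (by rw [card_three]; rfl)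
  have e : rCls = a := by
    rw [haC]
    show clsGO N8 (AutPO.reflG (oone : V8) N8_oone_ne) = _
    rw [show AutPO.reflG (oone : V8) N8_oone_ne = scalarGO N8 (-1) * C from Triality.ap_ext fun x => by
      rw [Triality.ap_reflG_oone, Triality.ap_mul, Triality.ap_scalar, hC, Units.val_neg, Units.val_one,
        neg_one_smul], map_mul, AutPOmega.clsGO_scalar Triality.nondeg8 Triality.five8, one_mul]
  rw [e]
  refine ⟨ha, b, hb, fun h => hbA (h ▸ haA), ?_⟩
  calc (a * b) ^ 3 = a * b * a * (b * a * b) := by rw [pow_succ, pow_two]; group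
    _ = a * b * a * (a * b * a) := by rw [hab]
    _ = a * b * (a * a) * b * a := by group
    _ = a * (b * b) * a := by rw [ha]; group
    _ = 1 := by rw [hb, mul_one, ha]

/-- Partners of a class form one orbit of its centraliser. -/
theorem trans_partners (x y y' : Out M8) (hx : x * x = 1) (hy : y * y = 1) (hy' : y' * y' = 1)
    (ne : x ≠ y) (ne' : x ≠ y') (h3 : (x * y) ^ 3 = 1) (h3' : (x * y') ^ 3 = 1) :
    ∃ z, Commute z x ∧ z * y * z⁻¹ = y' := by
  obtain ⟨e⟩ := out_equiv
  obtain ⟨z, hz, hz'⟩ := perm_four_trans (e x) (e y) (e y') (by rw [← map_mul, hx, map_one])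
    (by rw [← map_mul, hy, map_one]) (by rw [← map_mul, hy', map_one]) (e.injective.ne ne)
    (e.injective.ne ne') (by rw [← map_mul, ← map_pow, h3, map_one])
    (by rw [← map_mul, ← map_pow, h3', map_one])
  refine ⟨e.symm z, e.injective ?_, e.injective ?_⟩
  · rw [map_mul, map_mul, e.apply_symm_apply]; exact hz
  · rw [map_mul, map_mul, map_inv, e.apply_symm_apply]; exact hz'

section Isometry

set_option quotPrecheck false in
local notation "GI" => ↥(isometryGroup (ZMod 3) ⇑(plusForm (ZMod 3) 4 : QuadraticForm (ZMod 3) V8))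

/-- An isometry as a similarity. -/
abbrev io : GI →* GO N8 := iso2GO N8

theorem ap_io (g : GI) (x : V8) : ap (io g) x = act N8 g x := rfl

theorem units_cases : ∀ c : K3ˣ, c = 1 ∨ c = -1 := by decide

theorem exists_negOne :
    ∃ z : GI, z ∈ Omega K3 ⇑N8 ∧ ((z : GL I8 K3) : Matrix I8 I8 K3) = -1 :=
  (ClassicalSimple.negOne_plus (F := K3) (m := 4) (by rw [card_three]; decide)).2 fun h => by
    obtain ⟨k, hk⟩ := h.1; omega

theorem act_negOne {z : GI} (hz : ((z : GL I8 K3) : Matrix I8 I8 K3) = -1) (x : V8) :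
    act N8 z x = -x := by
  show ((z : GL I8 K3) : Matrix I8 I8 K3) *ᵥ x = -x
  rw [hz, Matrix.neg_mulVec, Matrix.one_mulVec]

theorem negOne_mul_self {z : GI} (hz : ((z : GL I8 K3) : Matrix I8 I8 K3) = -1) : z * z = 1 :=
  QForm.isometry_ext _ fun x => by rw [QForm.act_mul, act_negOne hz, act_negOne hz, neg_neg, QForm.act_one]

theorem simAut_negOne {z : GI} (hz : ((z : GL I8 K3) : Matrix I8 I8 K3) = -1) : simAut N8 (io z) = 1 := by
  rw [show io z = scalarGO N8 (-1) from Triality.ap_ext fun x => by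
    rw [ap_io, act_negOne hz, Triality.ap_scalar, Units.val_neg, Units.val_one, neg_one_smul],
    Triality.simAut_scalar]

theorem eq_or_of_simAut_eq {z : GI} (hz : ((z : GL I8 K3) : Matrix I8 I8 K3) = -1) {g h : GI}
    (e : simAut N8 (io g) = simAut N8 (io h)) : g = h ∨ g = z * h := by
  obtain ⟨c, hc⟩ := Triality.simAut_eq_iff8.1 e
  have hx : ∀ x, act N8 g x = (c : K3) • act N8 h x := fun x => by
    rw [← ap_io, hc, Triality.ap_mul, Triality.ap_scalar, ap_io]
  rcases units_cases c with rfl | rfl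
  · exact Or.inl (QForm.isometry_ext _ fun x => by rw [hx, Units.val_one, one_smul])
  · refine Or.inr (QForm.isometry_ext _ fun x => ?_)
    rw [hx, QForm.act_mul, act_negOne hz, Units.val_neg, Units.val_one, neg_one_smul]

theorem det_omega {w : GI} (h : w ∈ Omega K3 ⇑N8) : ((w : GL I8 K3) : Matrix I8 I8 K3).det = 1 :=
  ((QForm.mem_omega_iff_invariants (by decide) Triality.nondeg8 w).1 h).2

theorem det_mul' (g h : GI) : (((g * h : GI) : GL I8 K3) : Matrix I8 I8 K3).det =
    ((g : GL I8 K3) : Matrix I8 I8 K3).det * ((h : GL I8 K3) : Matrix I8 I8 K3).det :=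
  Matrix.det_mul _ _

theorem det_refl (v : V8) (hv : N8 v ≠ 0) :
    (((refl N8 v hv : GI) : GL I8 K3) : Matrix I8 I8 K3).det = -1 := QForm.det_reflectionMatrix _ hv

end Isometry

section Linear

theorem not_seven : ∀ d ≤ 5, ¬ 7 ∣ ∏ i : Fin d, (3 ^ d - 3 ^ (i : ℕ)) := by decide

/-- A map of order dividing seven fixes every invariant subspace of dimension at most five. -/
theorem fix_of_small (g : Module.End K3 V8) (hg : g ^ 7 = 1) (p : Submodule K3 V8)
    (hp : ∀ x ∈ p, g x ∈ p) (hd : Module.finrank K3 p ≤ 5) : ∀ x ∈ p, g x = x := by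
  set gp : Module.End K3 p := g.restrict hp
  have hgp : gp ^ 7 = 1 := by
    refine LinearMap.ext fun x => Subtype.ext ?_
    rw [Module.End.pow_restrict 7 hp]
    show (g ^ 7) x = x
    rw [hg]; rfl
  let φ := algEquivMatrix (Module.finBasis K3 p)
  have hM : φ gp ^ 7 = 1 := by rw [← map_pow, hgp, map_one]
  let u : GL (Fin (Module.finrank K3 p)) K3 := ⟨φ gp, φ gp ^ 6, by rw [← pow_succ', hM], by rw [← pow_succ, hM]⟩
  have hu : u ^ 7 = 1 := Units.ext (by rw [Units.val_pow_eq_pow_val, Units.val_one]; exact hM)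
  have hu1 : u = 1 := by
    rw [← orderOf_eq_one_iff]
    rcases (Nat.dvd_prime (by norm_num : Nat.Prime 7)).1 (orderOf_dvd_of_pow_eq_one hu) with h | h
    · exact h
    · have h7 : 7 ∣ Nat.card (GL (Fin (Module.finrank K3 p)) K3) := h ▸ orderOf_dvd_natCard u
      rw [Matrix.card_GL_field, card_three] at h7
      exact absurd h7 (not_seven _ hd)
  have e : gp = 1 := φ.injective (by rw [map_one]; exact congrArg Units.val hu1)
  intro x hx
  exact congrArg Subtype.val (LinearMap.congr_fun e ⟨x, hx⟩)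

/-- An involution of determinant `-1` commuting with an element of order seven has an eigenvalue of
multiplicity one. -/
theorem exists_axis (m w : Matrix I8 I8 K3) (hm : m * m = 1) (hdet : m.det = -1) (hw : w ^ 7 = 1)
    (hw1 : w ≠ 1) (hc : m * w = w * m) :
    ∃ ε : K3ˣ, ∃ v : V8, v ≠ 0 ∧ m *ᵥ v = -((ε : K3) • v) ∧
      ∀ x : V8, ∃ c : K3, m *ᵥ (x - c • v) = (ε : K3) • (x - c • v) := by
  set f : Module.End K3 V8 := Matrix.toLinAlgEquiv' m with hfdef
  set g : Module.End K3 V8 := Matrix.toLinAlgEquiv' w with hgdef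
  have hfx : ∀ x, f x = m *ᵥ x := fun x => Matrix.toLinAlgEquiv'_apply m x
  have hgx : ∀ x, g x = w *ᵥ x := fun x => Matrix.toLinAlgEquiv'_apply w x
  set P := LinearMap.ker (f - 1)
  set Q := LinearMap.ker (f + 1)
  have hP : ∀ x, x ∈ P ↔ f x = x := fun x => by simp [P, sub_eq_zero]
  have hQ : ∀ x, x ∈ Q ↔ f x = -x := fun x => by simp [Q, add_eq_zero_iff_eq_neg]
  have hff : ∀ x, f (f x) = x := fun x => by rw [hfx, hfx, Matrix.mulVec_mulVec, hm, Matrix.one_mulVec]
  have h4 : ∀ x : V8, (4 : K3) • x = x := fun x => by rw [show (4 : K3) = 1 from by decide, one_smul]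
  have hcompl : IsCompl P Q := by
    refine IsCompl.of_eq ((Submodule.eq_bot_iff _).2 fun x hx => ?_) (Submodule.eq_top_iff'.2 fun x => ?_)
    · have h1 := (hP x).1 hx.1
      have h2 := (hQ x).1 hx.2
      calc x = (4 : K3) • x := (h4 x).symm
        _ = (2 : K3) • (x + x) := by module
        _ = 0 := by rw [add_eq_zero_iff_eq_neg.2 (h1.symm.trans h2), smul_zero]
    · rw [show x = (2 : K3) • (x + f x) + (2 : K3) • (x - f x) from (h4 x).symm.trans (by module)]
      refine Submodule.add_mem_sup ((hP _).2 ?_) ((hQ _).2 ?_)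
      · rw [map_smul, map_add, hff, add_comm]
      · rw [map_smul, map_sub, hff, ← smul_neg, neg_sub]
  have hsum : Module.finrank K3 P + Module.finrank K3 Q = 8 := by
    rw [Submodule.finrank_add_eq_of_isCompl hcompl, Module.finrank_fintype_fun_eq_card]
    rfl
  have hdetQ : (-1 : K3) ^ Module.finrank K3 Q = -1 := by
    have e : f = (Submodule.prodEquivOfIsCompl P Q hcompl).toLinearMap ∘ₗ
        (LinearMap.prodMap LinearMap.id (-LinearMap.id)) ∘ₗ
          (Submodule.prodEquivOfIsCompl P Q hcompl).symm.toLinearMap := by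
      refine LinearMap.ext fun x => ?_
      obtain ⟨⟨p, q⟩, rfl⟩ := (Submodule.prodEquivOfIsCompl P Q hcompl).surjective x
      rw [LinearMap.comp_apply, LinearMap.comp_apply, LinearEquiv.coe_coe, LinearEquiv.coe_coe,
        LinearEquiv.symm_apply_apply]
      simp only [LinearMap.prodMap_apply, LinearMap.id_coe, id_eq, LinearMap.neg_apply,
        Submodule.coe_prodEquivOfIsCompl', map_add, (hP _).1 p.2, (hQ _).1 q.2, Submodule.coe_neg]
    have hd : LinearMap.det f = m.det := LinearMap.det_toLin' m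
    rw [e, LinearMap.det_conj, LinearMap.det_prodMap, LinearMap.det_id, one_mul,
      show (-LinearMap.id : Q →ₗ[K3] Q) = (-1 : K3) • LinearMap.id from (neg_one_smul _ _).symm,
      LinearMap.det_smul, LinearMap.det_id, mul_one, hdet] at hd
    exact hd
  have hg7 : g ^ 7 = 1 := by rw [hgdef, ← map_pow, hw, map_one]
  have hgf : ∀ x, f (g x) = g (f x) := fun x => by
    rw [hfx, hgx, hgx, hfx, Matrix.mulVec_mulVec, Matrix.mulVec_mulVec, hc]
  have hbig : ¬ (Module.finrank K3 P ≤ 5 ∧ Module.finrank K3 Q ≤ 5) := by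
    rintro ⟨h1, h2⟩
    have k1 := fix_of_small g hg7 P (fun x hx => (hP _).2 (by rw [hgf, (hP x).1 hx])) h1
    have k2 := fix_of_small g hg7 Q (fun x hx => (hQ _).2 (by rw [hgf, (hQ x).1 hx, map_neg])) h2
    refine hw1 (Matrix.toLinAlgEquiv'.injective ((map_one (Matrix.toLinAlgEquiv'
      (R := K3) (n := I8))).symm ▸ LinearMap.ext fun x => ?_))
    obtain ⟨p, hp, q, hq, rfl⟩ := Submodule.mem_sup.1 (hcompl.sup_eq_top ▸ Submodule.mem_top : x ∈ P ⊔ Q)
    show g (p + q) = p + q
    rw [map_add, k1 p hp, k2 q hq]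
  have hodd : ¬ Even (Module.finrank K3 Q) := fun he => by
    rw [he.neg_one_pow] at hdetQ; exact absurd hdetQ (by decide)
  have hone : Module.finrank K3 Q = 1 ∨ Module.finrank K3 P = 1 := by
    rw [Nat.even_iff] at hodd; omega
  have hsplit : ∀ x : V8, ∃ p ∈ P, ∃ q ∈ Q, p + q = x := fun x =>
    Submodule.mem_sup.1 (hcompl.sup_eq_top ▸ Submodule.mem_top : x ∈ P ⊔ Q)
  rcases hone with h | h
  · obtain ⟨⟨v, hv⟩, hv0, hvs⟩ := finrank_eq_one_iff'.1 h
    refine ⟨1, v, fun e => hv0 (Subtype.ext e), ?_, fun x => ?_⟩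
    · rw [Units.val_one, one_smul, ← hfx, (hQ v).1 hv]
    · obtain ⟨p, hp, q, hq, rfl⟩ := hsplit x
      obtain ⟨c, hc'⟩ := hvs ⟨q, hq⟩
      refine ⟨c, ?_⟩
      rw [show c • v = q from congrArg Subtype.val hc', add_sub_cancel_right, Units.val_one, one_smul,
        ← hfx, (hP p).1 hp]
  · obtain ⟨⟨v, hv⟩, hv0, hvs⟩ := finrank_eq_one_iff'.1 h
    refine ⟨-1, v, fun e => hv0 (Subtype.ext e), ?_, fun x => ?_⟩
    · rw [Units.val_neg, Units.val_one, neg_one_smul, neg_neg, ← hfx, (hP v).1 hv]
    · obtain ⟨p, hp, q, hq, rfl⟩ := hsplit x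
      obtain ⟨c, hc'⟩ := hvs ⟨p, hp⟩
      refine ⟨c, ?_⟩
      rw [show c • v = p from congrArg Subtype.val hc', add_sub_cancel_left, Units.val_neg, Units.val_one,
        neg_one_smul, ← hfx, (hQ q).1 hq]

end Linear

section Classify

set_option quotPrecheck false in
local notation "GI" => ↥(isometryGroup (ZMod 3) ⇑(plusForm (ZMod 3) 4 : QuadraticForm (ZMod 3) V8))

/-- An isometry negating `v` and fixing a complement is the reflection in `v`. -/
theorem eq_refl {h : GI} {v : V8} (hv : v ≠ 0) (h1 : act N8 h v = -v)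
    (h2 : ∀ x : V8, ∃ c : K3, act N8 h (x - c • v) = x - c • v) :
    ∃ hN : N8 v ≠ 0, h = refl N8 v hN := by
  have horth : ∀ y, act N8 h y = y → QuadraticMap.polar ⇑N8 v y = 0 := fun y hy => by
    have e := QForm.act_polar N8 h v y
    rw [h1, hy, QuadraticMap.polar_neg_left] at e
    revert e
    generalize QuadraticMap.polar ⇑N8 v y = t
    revert t
    decide
  have hpol : ∀ x c, act N8 h (x - c • v) = x - c • v → QuadraticMap.polar ⇑N8 v x = c * (2 * N8 v) := by
    intro x c hx
    have e := horth _ hx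
    rw [← QuadraticMap.polarBilin_apply_apply, map_sub, map_smul, QuadraticMap.polarBilin_apply_apply,
      QuadraticMap.polarBilin_apply_apply, QuadraticMap.polar_self, smul_eq_mul, sub_eq_zero,
      nsmul_eq_mul] at e
    exact_mod_cast e
  have hN : N8 v ≠ 0 := fun h0 => hv (Triality.nondeg8.1 v fun x => by
    obtain ⟨c, hc⟩ := h2 x
    rw [QuadraticMap.polarBilin_apply_apply, hpol x c hc, h0, mul_zero, mul_zero])
  refine ⟨hN, QForm.isometry_ext _ fun x => ?_⟩
  obtain ⟨c, hc⟩ := h2 x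
  have hlin : act N8 h x = act N8 h (x - c • v) + c • act N8 h v := by
    show _ = _ *ᵥ _ + c • (_ *ᵥ _)
    rw [← Matrix.mulVec_smul, ← Matrix.mulVec_add, sub_add_cancel]
  rw [hlin, hc, h1, QForm.act_refl, hpol x c hc, show (N8 v)⁻¹ * (c * (2 * N8 v)) = c * 2 by field_simp]
  module

/-- A similarity carries reflections to reflections. -/
theorem conj_reflG (L : GO N8) {c : K3} (hc : c ≠ 0) (hL : ∀ x, N8 (ap L x) = c * N8 x) (v : V8)
    (hv : N8 v ≠ 0) :
    L * AutPO.reflG v hv * L⁻¹ = AutPO.reflG (ap L v) (by rw [hL]; exact mul_ne_zero hc hv) := by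
  have hpol : ∀ x, QuadraticMap.polar ⇑N8 (ap L v) (ap L x) = c * QuadraticMap.polar ⇑N8 v x := fun x => by
    have hadd : ap L v + ap L x = ap L (v + x) := (Matrix.mulVec_add _ _ _).symm
    simp only [QuadraticMap.polar, hadd, hL]
    ring
  refine Triality.ap_ext fun x => ?_
  rw [Triality.ap_mul, Triality.ap_mul]
  show _ = reflectionMatrix ⇑N8 (ap L v) *ᵥ x
  rw [QForm.reflectionMatrix_mulVec]
  conv_rhs => rw [← Triality.ap_inv_ap L x, hpol, hL]
  show ap L (reflectionMatrix ⇑N8 v *ᵥ ap L⁻¹ x) = _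
  rw [QForm.reflectionMatrix_mulVec]
  show (L.1 : Matrix I8 I8 K3) *ᵥ _ = _
  rw [Matrix.mulVec_sub, Matrix.mulVec_smul]
  congr 2
  field_simp

theorem three_cases : ∀ t : K3, t ≠ 0 → t = 1 ∨ t = -1 := by decide

/-- The reflection in any vector is conjugate to the reflection in the identity. -/
theorem refl_conj (v : V8) (hv : N8 v ≠ 0) :
    ∃ α, α * simAut N8 (AutPO.reflG v hv) * α⁻¹ = rAut := by
  have main : ∀ (w : V8) (hw : N8 w ≠ 0), N8 w = 1 → ∃ α, α * simAut N8 (AutPO.reflG w hw) * α⁻¹ = rAut := by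
    intro w hw h1
    obtain ⟨g, hg⟩ := QForm.exists_act_eq (Q := N8) Triality.nondeg8 (fun e => hw (by rw [e, map_zero]))
      (fun e : (oone : V8) = 0 => N8_oone_ne (F := K3) (by rw [e, map_zero]))
      (h1.trans Triality.N8_oone.symm)
    refine ⟨simAut N8 (io g), ?_⟩
    rw [← map_inv, ← map_mul, ← map_mul, conj_reflG (io g) one_ne_zero
      (fun x => by rw [ap_io, QForm.act_map, one_mul]) w hw, rAut]
    congr 2
  rcases three_cases _ hv with h | h
  · exact main v hv h
  set a : V8 := Pi.single (Sum.inl 0) (-1) + Pi.single (Sum.inr 0) 1 with ha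
  have hNa : N8 a = -1 := by simp [ha, Triality.N8_apply]
  obtain ⟨L, -, -, hL, -, -⟩ := Triality.rel_lmul (a := a) (by rw [hNa]; decide)
  have hLq : ∀ x, N8 (ap L x) = -1 * N8 x := fun x => by rw [hL, Triality.N8_omul, hNa]
  obtain ⟨α, hα⟩ := main (ap L v) (by rw [hLq]; exact mul_ne_zero (by decide) hv) (by rw [hLq, h]; decide)
  refine ⟨α * simAut N8 L, ?_⟩
  rw [← hα, ← conj_reflG L (by decide) hLq v hv, map_mul, map_mul, map_inv]
  group

theorem io_refl (v : V8) (hv : N8 v ≠ 0) : io (refl N8 v hv) = AutPO.reflG v hv := rfl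

theorem simAut_omega {ω : GI} (hω : ω ∈ Omega K3 ⇑N8) :
    simAut N8 (io ω) = MulAut.conj (QuotientGroup.mk ⟨ω, hω⟩ : M8) :=
  MulEquiv.ext fun y => QuotientGroup.induction_on y fun _ => rfl

theorem conj_injective : Function.Injective (MulAut.conj : M8 → MulAut M8) :=
  (injective_iff_map_eq_one _).2 fun x hx => Subgroup.mem_bot.1 <|
    AutPOmega.center_POmega (F := K3) (ClassicalSimple.bil_nondegenerate N8 Triality.nondeg8)
      Triality.five8 ▸ Subgroup.mem_center_iff.2 fun y => by
        have h : x * y * x⁻¹ = y := MulEquiv.congr_fun hx y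
        exact (mul_inv_eq_iff_eq_mul.1 h).symm

/-- An involution with a partner and centraliser order divisible by seven is conjugate to the
reflection. -/
theorem exists_conj_refl {β γ : MulAut M8} (P : IsPair 7 β γ) : ∃ α, α * β * α⁻¹ = rAut := by
  classical
  -- into the class of the reflection
  obtain ⟨e⟩ := out_equiv
  obtain ⟨sx, sy, ne, cu⟩ := cls_pair P
  obtain ⟨hr, b, hb, hrb, hb3⟩ := rCls_pair
  obtain ⟨z, hz⟩ := perm_four_class (e (QuotientGroup.mk β)) (e rCls) (e (QuotientGroup.mk γ))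
    (by rw [← map_mul]; exact (congrArg e sx).trans (map_one e))
    (by rw [← map_mul]; exact (congrArg e sy).trans (map_one e)) (e.injective.ne ne)
    (by rw [← map_mul, ← map_pow]; exact (congrArg e cu).trans (map_one e))
    (by rw [← map_mul, hr, map_one])
    ⟨e b, by rw [← map_mul, hb, map_one], e.injective.ne hrb, by rw [← map_mul, ← map_pow, hb3, map_one]⟩
  obtain ⟨a0, ha0⟩ := QuotientGroup.mk_surjective (e.symm z)
  have P1 := P.conj a0
  set β1 := a0 * β * a0⁻¹ with hβ1
  have hcls : (QuotientGroup.mk β1 : Out M8) = QuotientGroup.mk rAut := by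
    apply e.injective
    rw [hβ1, QuotientGroup.mk_mul, QuotientGroup.mk_mul, QuotientGroup.mk_inv, ha0, map_mul, map_mul,
      map_inv, e.apply_symm_apply]
    exact hz
  obtain ⟨ω', ⟨ω, hω, hωω'⟩, he⟩ : rAut⁻¹ * β1 ∈ (omegaSub N8).map (simAut N8) := by
    rw [← ClassicalSimple.inn_eq]; exact QuotientGroup.eq.1 hcls.symm
  set g : GI := refl N8 oone N8_oone_ne * ω with hgdef
  have hg : simAut N8 (io g) = β1 := by
    rw [hgdef, map_mul, io_refl, map_mul, show io ω = ω' from Subtype.ext hωω', he]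
    exact mul_inv_cancel_left _ _
  obtain ⟨z0, hz0, hz0m⟩ := exists_negOne
  -- an involution of determinant `-1`
  have hdet : ((g : GL I8 K3) : Matrix I8 I8 K3).det = -1 := by
    rw [hgdef, det_mul', det_refl, det_omega hω, mul_one]
  have hz1 : z0 ≠ 1 := fun h => by
    have := act_negOne hz0m (oone : V8)
    rw [h, QForm.act_one] at this
    exact absurd (congrFun this (Sum.inl 0)) (by decide)
  have hgg : g * g = 1 := by
    refine (eq_or_of_simAut_eq hz0m (g := g * g) (h := 1) ?_).resolve_right fun h => ?_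
    · rw [map_one, map_one, map_mul, map_mul, hg, P1.sqβ]
    · set mg := ((g : GL I8 K3) : Matrix I8 I8 K3)
      have hm2 : mg * mg = -1 := by
        rw [← hz0m]
        exact congrArg (fun t : GI => ((t : GL I8 K3) : Matrix I8 I8 K3)) (h.trans (mul_one z0))
      have h' : (1 + mg) * (1 + mg) = (2 : K3) • mg := by
        rw [Matrix.mul_add, Matrix.add_mul, Matrix.add_mul, one_mul, mul_one, one_mul, hm2, two_smul]
        abel
      have h'' := congrArg Matrix.det h'
      rw [Matrix.det_mul, Matrix.det_smul, hdet] at h''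
      revert h''
      generalize (1 + mg).det = t
      revert t
      decide
  -- an element of order seven
  haveI : Fact (Nat.Prime 7) := ⟨by norm_num⟩
  obtain ⟨⟨x, hx⟩, hx7⟩ := exists_prime_orderOf_dvd_card' (G := ↥(fixGrp β1)) 7 P1.card
  rw [Subgroup.orderOf_mk] at hx7
  obtain ⟨⟨w0, hw0⟩, rfl⟩ := QuotientGroup.mk_surjective x
  have hfix : simAut N8 (io (g * w0 * g⁻¹)) = simAut N8 (io w0) := by
    rw [map_mul, map_mul, map_inv, map_mul, map_mul, map_inv, hg, simAut_omega hw0]
    exact conj_fixed β1 hx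
  have hpow : simAut N8 (io (w0 ^ 7)) = 1 := by
    rw [map_pow, map_pow, simAut_omega hw0]
    exact conj_pow_eq_one hx7
  obtain ⟨w, hw7, hws⟩ : ∃ w : GI, w ^ 7 = 1 ∧ (w = w0 ∨ w = z0 * w0) := by
    rcases eq_or_of_simAut_eq hz0m (g := w0 ^ 7) (h := 1) (by rw [hpow, map_one, map_one]) with h | h
    · exact ⟨w0, h, Or.inl rfl⟩
    · have hcz : Commute z0 w0 := QForm.isometry_ext _ fun y => by
        rw [QForm.act_mul, QForm.act_mul, act_negOne hz0m, act_negOne hz0m]
        exact (Matrix.mulVec_neg _ _).symm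
      refine ⟨z0 * w0, ?_, Or.inr rfl⟩
      rw [hcz.mul_pow, h, mul_one, ← pow_succ,
        show z0 ^ (7 + 1) = (z0 * z0) ^ 4 by rw [← pow_two, ← pow_mul], negOne_mul_self hz0m, one_pow]
  have hsw : simAut N8 (io w) = simAut N8 (io w0) := by
    rcases hws with rfl | rfl
    · rfl
    · rw [map_mul, map_mul, simAut_negOne hz0m, one_mul]
  have hw1 : w ≠ 1 := fun h => by
    rw [h, map_one, map_one, simAut_omega hw0, ← map_one MulAut.conj] at hsw
    rw [← conj_injective hsw, orderOf_one] at hx7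
    norm_num at hx7
  have hcw : g * w = w * g := by
    rw [← mul_inv_eq_iff_eq_mul]
    refine (eq_or_of_simAut_eq hz0m (g := g * w * g⁻¹) (h := w) ?_).resolve_right fun h => hz1 ?_
    · rw [map_mul, map_mul, map_inv, map_mul, map_mul, map_inv, hsw]
      simpa only [map_mul, map_inv] using hfix
    · have hcz : Commute z0 w := QForm.isometry_ext _ fun y => by
        rw [QForm.act_mul, QForm.act_mul, act_negOne hz0m, act_negOne hz0m]
        exact (Matrix.mulVec_neg _ _).symm
      have h7 := congrArg (· ^ 7) h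
      simp only [conj_pow, hcz.mul_pow, hw7, mul_one, mul_inv_cancel] at h7
      calc z0 = z0 * (z0 * z0) ^ 3 := by rw [negOne_mul_self hz0m, one_pow, mul_one]
        _ = z0 ^ 7 := by rw [← pow_two, ← pow_mul, ← pow_succ']
        _ = 1 := h7.symm
  -- its axis
  obtain ⟨ε, v, hv0, hv, hsp⟩ := exists_axis ((g : GL I8 K3) : Matrix I8 I8 K3)
    ((w : GL I8 K3) : Matrix I8 I8 K3)
    (congrArg (fun t : GI => ((t : GL I8 K3) : Matrix I8 I8 K3)) hgg) hdet
    (by
      have := congrArg (fun t : GI => ((t : GL I8 K3) : Matrix I8 I8 K3)) hw7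
      simpa using this)
    (fun h => hw1 (Subtype.ext (Units.ext h)))
    (congrArg (fun t : GI => ((t : GL I8 K3) : Matrix I8 I8 K3)) hcw)
  obtain ⟨h, hh, h1, h2⟩ : ∃ h : GI, simAut N8 (io h) = β1 ∧ act N8 h v = -v ∧
      ∀ x : V8, ∃ c : K3, act N8 h (x - c • v) = x - c • v := by
    rcases units_cases ε with rfl | rfl
    · refine ⟨g, hg, hv.trans (by rw [Units.val_one, one_smul]), fun x => ?_⟩
      obtain ⟨c, hc⟩ := hsp x
      exact ⟨c, hc.trans (by rw [Units.val_one, one_smul])⟩
    · refine ⟨z0 * g, by rw [map_mul, map_mul, simAut_negOne hz0m, one_mul, hg], ?_, fun x => ?_⟩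
      · rw [QForm.act_mul, act_negOne hz0m]
        show -(((g : GL I8 K3) : Matrix I8 I8 K3) *ᵥ v) = -v
        rw [hv, Units.val_neg, Units.val_one, neg_one_smul, neg_neg]
      · obtain ⟨c, hc⟩ := hsp x
        refine ⟨c, ?_⟩
        rw [QForm.act_mul, act_negOne hz0m]
        show -(((g : GL I8 K3) : Matrix I8 I8 K3) *ᵥ (x - c • v)) = _
        rw [hc, Units.val_neg, Units.val_one, neg_one_smul, neg_neg]
  obtain ⟨hN, rfl⟩ := eq_refl hv0 h1 h2
  obtain ⟨α, hα⟩ := refl_conj v hN
  refine ⟨α * a0, ?_⟩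
  rw [io_refl] at hh
  rw [← hα, hh, hβ1]
  group

/-- The centraliser of the reflection covers that of its class. -/
theorem exists_lift (z : Out M8) (hz : Commute z rCls) :
    ∃ α, Commute α rAut ∧ (QuotientGroup.mk α : Out M8) = z := by
  classical
  set u : V8 := Pi.single (Sum.inl 1) (-1) + Pi.single (Sum.inr 1) 1 with hu
  have hNu : N8 u = -1 := by simp [hu, Triality.N8_apply, Fin.sum_univ_four, Pi.single_apply]
  have hu0 : N8 u ≠ 0 := by rw [hNu]; decide
  have hortho : QuadraticMap.polar ⇑N8 (oone : V8) u = 0 := by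
    simp [hu, Triality.polar_N8, oone, Fin.sum_univ_four, Pi.single_apply]
  set r' : MulAut M8 := simAut N8 (AutPO.reflG u hu0) with hr'
  have hcomm : Commute r' rAut := by
    rw [hr', rAut]
    refine (Commute.map ?_ (simAut N8))
    rw [commute_iff_eq, ← mul_inv_eq_iff_eq_mul, conj_reflG _ one_ne_zero
      (fun x => by rw [← io_refl, ap_io, QForm.act_map, one_mul]) _ N8_oone_ne]
    congr 1
    rw [← io_refl, ap_io, QForm.act_refl, QuadraticMap.polar_comm, hortho, mul_zero, zero_smul, sub_zero]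
  obtain ⟨z0, hz0, hz0m⟩ := exists_negOne
  have hne : ∀ k : GI, clsGO N8 (io k) = 1 → k ∈ Omega K3 ⇑N8 := by
    intro k hk
    obtain ⟨ω', ⟨ω, hω, hωω'⟩, he⟩ := (AutPOmega.clsGO_eq_one_iff N8).1 hk
    rw [show ω' = io ω from Subtype.ext hωω'.symm] at he
    rcases eq_or_of_simAut_eq hz0m he.symm with rfl | rfl
    exacts [hω, mul_mem hz0 hω]
  have h1 : (QuotientGroup.mk r' : Out M8) ≠ 1 := fun h => by
    have := det_omega (hne (refl N8 u hu0) h)
    rw [det_refl] at this
    exact absurd this (by decide)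
  have h2 : (QuotientGroup.mk r' : Out M8) ≠ rCls := fun h => by
    have hmem := hne (refl N8 u hu0 * refl N8 oone N8_oone_ne) (by
      rw [map_mul, map_mul, io_refl, io_refl]
      show (QuotientGroup.mk r' : Out M8) * rCls = 1
      rw [h, (rCls_pair).1])
    have := (QForm.mem_omega_iff_of_prod (Q := N8) Triality.nondeg8 (by decide) _ [u, oone] (by
      simp only [List.mem_cons, List.not_mem_nil, or_false]
      rintro v (rfl | rfl)
      exacts [hu0, N8_oone_ne]) (by
      simp only [List.map_cons, List.map_nil, List.prod_cons, List.prod_nil, mul_one]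
      rfl)).1 hmem
    simp only [List.map_cons, List.map_nil, List.prod_cons, List.prod_nil, mul_one, hNu,
      Triality.N8_oone] at this
    obtain ⟨t, ht⟩ := this.2
    revert ht; revert t; decide
  obtain ⟨e⟩ := out_equiv
  obtain ⟨hr, b, hb, hrb, hb3⟩ := rCls_pair
  have key := perm_four_cent (e rCls) (e (QuotientGroup.mk r')) (e z) (by rw [← map_mul, hr, map_one])
    ⟨e b, by rw [← map_mul, hb, map_one], e.injective.ne hrb, by rw [← map_mul, ← map_pow, hb3, map_one]⟩
    (by
      rw [← map_mul, ← map_mul]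
      exact congrArg e ((hcomm.map (QuotientGroup.mk' (Inn M8))).eq))
    (fun h => h1 (e.injective (h.trans (map_one e).symm))) (e.injective.ne h2)
    (by rw [← map_mul, ← map_mul, hz.eq])
  rcases key with h | h | h | h
  · exact ⟨1, Commute.one_left _, (e.injective (h.trans (map_one e).symm)).symm⟩
  · exact ⟨rAut, Commute.refl _, (e.injective h).symm⟩
  · exact ⟨r', hcomm, (e.injective h).symm⟩
  · refine ⟨rAut * r', (Commute.refl _).mul_left hcomm, ?_⟩
    rw [← map_mul] at h
    exact (e.injective h).symm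

/-- Two pairs are conjugate up to an inner automorphism on one side. -/
theorem exists_pair_conj {β γ β' γ' : MulAut M8} (P : IsPair 7 β γ) (P' : IsPair 7 β' γ') :
    ∃ (α : MulAut M8) (m : M8), α * β * α⁻¹ = β' ∧
      α * γ * α⁻¹ = MulAut.conj m * γ' * (MulAut.conj m)⁻¹ :=
  pair_to rAut (fun _ _ P => exists_conj_refl P) exists_lift trans_partners P P'

end Classify

end Cfsg.Agent.TrialityPair
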